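import Groth.Agent.Lib.QA11.Basic
import Groth.Prelude.Def_MoreMor
import Mathlib.AlgebraicGeometry.QuasiAffine

/-!
# Ind-quasi-affine morphisms

Ind-quasi-affineness may be checked on an affine open cover of the target and is stable under base
change.
-/

universe u

open CategoryTheory CategoryTheory.Limits AlgebraicGeometry TopologicalSpace

set_option backward.isDefEq.respectTransparency.types false

namespace Groth.Agent.IndQA12

variable {X Y Z : Scheme.{u}}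

/-- Quasi-compact subsets lie in quasi-compact opens. -/
theorem exists_isCompact_open_superset {s : Set X} (hs : IsCompact s) (U : X.Opens)
    (h : s ⊆ U) : ∃ W : X.Opens, s ⊆ W ∧ W ≤ U ∧ IsCompact (W : Set X) := by
  choose W hW hxW hWU using fun x : s => exists_isAffineOpen_mem_and_subset (U := U) (x := x.1)
    (h x.2)
  obtain ⟨t, ht⟩ := hs.elim_finite_subcover (fun x => (W x : Set X)) (fun x => (W x).2)
    fun x hx => Set.mem_iUnion.2 ⟨⟨x, hx⟩, hxW ⟨x, hx⟩⟩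
  have e : ((⨆ x ∈ t, W x : X.Opens) : Set X) = ⋃ x ∈ t, (W x : Set X) := by simp
  refine ⟨⨆ x ∈ t, W x, e ▸ ht, iSup₂_le fun x _ => hWU x, ?_⟩
  rw [e]
  exact t.finite_toSet.isCompact_biUnion fun x _ => (hW x).isCompact

/-- Quasi-compact opens of schemes affine over an ind-quasi-affine scheme are quasi-affine. -/
theorem isQuasiAffine_of_isAffineHom (a : Z ⟶ X) [IsAffineHom a]
    (hX : MoreMor.IsIndQuasiAffine X) (U : Z.Opens) (hU : IsCompact (U : Set Z)) :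
    U.toScheme.IsQuasiAffine := by
  obtain ⟨W, hUW, -, hW⟩ := exists_isCompact_open_superset (hU.image a.continuous) ⊤
    fun _ _ => trivial
  have := hX W hW
  have : IsAffineHom (a ∣_ W) := IsZariskiLocalAtTarget.restrict ‹_› W
  have : (a ⁻¹ᵁ W).toScheme.IsQuasiAffine := Scheme.IsQuasiAffine.of_isAffineHom (a ∣_ W)
  exact QA11.isQuasiAffine_of_le (V := a ⁻¹ᵁ W) (fun z hz => hUW ⟨z, hz, rfl⟩) hU

/-- Ind-quasi-affineness is local on the target. -/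
theorem of_cover (f : X ⟶ Y) (h : ∀ y : Y, ∃ W : Y.Opens, y ∈ W ∧
      ∀ U : X.Opens, U ≤ f ⁻¹ᵁ W → IsCompact (U : Set X) → U.toScheme.IsQuasiAffine) :
    MoreMor.IsIndQuasiAffineHom f := by
  intro V hV U₁ hU₁
  let U : X.Opens := (f ⁻¹ᵁ V).ι ''ᵁ U₁
  have hUV : U ≤ f ⁻¹ᵁ V := (f ⁻¹ᵁ V).ι_image_le U₁
  have hU : IsCompact (U : Set X) := hU₁.image (f ⁻¹ᵁ V).ι.continuous
  suffices U.toScheme.IsQuasiAffine from
    QA11.isQuasiAffine_of_iso ((f ⁻¹ᵁ V).ι.isoImage U₁).hom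
  have : IsAffine V.toScheme := hV
  have : CompactSpace U.toScheme := isCompact_iff_compactSpace.mp hU
  obtain ⟨q, hq⟩ : ∃ q : U.toScheme ⟶ V.toScheme, q ≫ V.ι = U.ι ≫ f :=
    ⟨f.resLE V U hUV, Scheme.Hom.resLE_comp_ι _ _⟩
  have : QuasiCompact q := (quasiCompact_iff_compactSpace q).2 ‹_›
  refine QA11.of_forall_qa _ fun z => ?_
  obtain ⟨W, hzW, hW⟩ := h (f z.1)
  have hmem : ∀ z : U.toScheme, V.ι (q z) = f z.1 := fun z => by
    rw [← Scheme.Hom.comp_apply, hq]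
    rfl
  obtain ⟨_, ⟨_, ⟨r, rfl⟩, rfl⟩, hzr, hrW⟩ :=
    (isBasis_basicOpen V.toScheme).exists_subset_of_mem_open
      (show q z ∈ V.ι ⁻¹ᵁ W by show V.ι (q z) ∈ W; rwa [hmem]) (V.ι ⁻¹ᵁ W).2
  refine ⟨q.appTop r, ?_, ?_⟩
  · rw [← Scheme.preimage_basicOpen_top]; exact hzr
  have hc : IsCompact ((U.toScheme.basicOpen (q.appTop r)) : Set U.toScheme) := by
    rw [← Scheme.preimage_basicOpen_top]
    exact q.isCompact_preimage ((isAffineOpen_top V.toScheme).basicOpen r).isCompact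
  have := hW (U.ι ''ᵁ U.toScheme.basicOpen (q.appTop r)) (by
      rintro _ ⟨x, hx, rfl⟩
      rw [SetLike.mem_coe, ← Scheme.preimage_basicOpen_top] at hx
      show f x.1 ∈ W
      rw [← hmem x]
      exact hrW hx)
    (hc.image U.ι.continuous)
  exact QA11.isQuasiAffine_of_iso (U.ι.isoImage _).hom

/-- Quasi-compact opens in the preimage of an affine open are quasi-affine. -/
theorem isQuasiAffine_of_le {f : X ⟶ Y} (hf : MoreMor.IsIndQuasiAffineHom f) {V : Y.Opens}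
    (hV : IsAffineOpen V) {U : X.Opens} (hUV : U ≤ f ⁻¹ᵁ V) (hU : IsCompact (U : Set X)) :
    U.toScheme.IsQuasiAffine := by
  let U₁ : (f ⁻¹ᵁ V).toScheme.Opens := (f ⁻¹ᵁ V).ι ⁻¹ᵁ U
  have e : (f ⁻¹ᵁ V).ι ''ᵁ U₁ = U := by
    rw [Scheme.Hom.image_preimage_eq_opensRange_inf, Scheme.Opens.opensRange_ι, inf_eq_right.2 hUV]
  have hc : IsCompact (U₁ : Set (f ⁻¹ᵁ V).toScheme) := by
    rw [(f ⁻¹ᵁ V).ι.isEmbedding.isCompact_iff]
    show IsCompact (((f ⁻¹ᵁ V).ι ''ᵁ U₁ : X.Opens) : Set X)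
    rw [e]
    exact hU
  have := hf V hV U₁ hc
  rw [← e]
  exact QA11.isQuasiAffine_of_iso ((f ⁻¹ᵁ V).ι.isoImage U₁).inv

/-- Ind-quasi-affine morphisms are stable under base change. -/
theorem baseChange {X' Y' : Scheme.{u}} {f : X ⟶ Y} {f' : X' ⟶ Y'} {g' : X' ⟶ X} {g : Y' ⟶ Y}
    (hc : IsPullback g' f' f g) (hf : MoreMor.IsIndQuasiAffineHom f) :
    MoreMor.IsIndQuasiAffineHom f' := by
  refine of_cover f' fun y => ?_
  obtain ⟨V, hV, hyV, -⟩ :=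
    exists_isAffineOpen_mem_and_subset (X := Y) (x := g y) (U := ⊤) trivial
  obtain ⟨W, hW, hyW, hWV⟩ := exists_isAffineOpen_mem_and_subset (X := Y') (x := y) (U := g ⁻¹ᵁ V) hyV
  refine ⟨W, hyW, fun U hUW hU => ?_⟩
  have hle : f' ⁻¹ᵁ W ≤ g' ⁻¹ᵁ (f ⁻¹ᵁ V) := fun z hz => by
    show f (g' z) ∈ V
    rw [← Scheme.Hom.comp_apply, hc.w, Scheme.Hom.comp_apply]
    exact hWV hz
  let a : (f' ⁻¹ᵁ W).toScheme ⟶ (f ⁻¹ᵁ V).toScheme := g'.resLE (f ⁻¹ᵁ V) (f' ⁻¹ᵁ W) hle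
  have h1 : IsPullback a (f' ∣_ W) (f ∣_ V) (g.resLE V W hWV) := by
    refine IsPullback.of_right ?_ ?_ (isPullback_morphismRestrict f V).flip
    · rw [Scheme.Hom.resLE_comp_ι, Scheme.Hom.resLE_comp_ι]
      exact (isPullback_morphismRestrict f' W).flip.paste_horiz hc
    · rw [← cancel_mono V.ι]
      simp only [a, Category.assoc, morphismRestrict_ι, Scheme.Hom.resLE_comp_ι,
        Scheme.Hom.resLE_comp_ι_assoc, morphismRestrict_ι_assoc, hc.w]
  have : IsAffine W.toScheme := hW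
  have : IsAffine V.toScheme := hV
  have : IsAffineHom a :=
    MorphismProperty.of_isPullback (P := @IsAffineHom) h1.flip inferInstance
  let U₁ : (f' ⁻¹ᵁ W).toScheme.Opens := (f' ⁻¹ᵁ W).ι ⁻¹ᵁ U
  have e : (f' ⁻¹ᵁ W).ι ''ᵁ U₁ = U := by
    rw [Scheme.Hom.image_preimage_eq_opensRange_inf, Scheme.Opens.opensRange_ι, inf_eq_right.2 hUW]
  have hc' : IsCompact (U₁ : Set (f' ⁻¹ᵁ W).toScheme) := by
    rw [(f' ⁻¹ᵁ W).ι.isEmbedding.isCompact_iff]
    show IsCompact (((f' ⁻¹ᵁ W).ι ''ᵁ U₁ : X'.Opens) : Set X')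
    rw [e]
    exact hU
  have := isQuasiAffine_of_isAffineHom a (hf V hV) U₁ hc'
  rw [← e]
  exact QA11.isQuasiAffine_of_iso ((f' ⁻¹ᵁ W).ι.isoImage U₁).inv

end Groth.Agent.IndQA12
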