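import Groth.Agent.Lib.IndQA12.Basic
import Groth.Agent.Lib.QADesc18.Basic

/-!
# Calculus of ind-quasi-affine morphisms

Composition, cancellation, immersions, and fpqc descent of ind-quasi-affineness.
-/

universe u

open CategoryTheory CategoryTheory.Limits AlgebraicGeometry TopologicalSpace

set_option backward.isDefEq.respectTransparency.types false

namespace Groth.Agent.IndQA12

variable {X Y Z : Scheme.{u}}

/-- Quasi-compact opens over quasi-affine opens are quasi-affine. -/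
theorem isQuasiAffine_of_le' {f : X ⟶ Y} (hf : MoreMor.IsIndQuasiAffineHom f) {K : Y.Opens}
    [K.toScheme.IsQuasiAffine] {U : X.Opens} (hUK : U ≤ f ⁻¹ᵁ K) (hU : IsCompact (U : Set X)) :
    U.toScheme.IsQuasiAffine := by
  have : CompactSpace U.toScheme := isCompact_iff_compactSpace.mp hU
  let q : U.toScheme ⟶ K.toScheme := f.resLE K U hUK
  have hq : q ≫ K.ι = U.ι ≫ f := Scheme.Hom.resLE_comp_ι _ _
  have : QuasiCompact q := quasiCompact_of_compactSpace q
  refine QA11.of_forall_qa _ fun z => ?_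
  obtain ⟨_, ⟨_, ⟨r, hr, rfl⟩, rfl⟩, hzr, -⟩ :=
    (Scheme.IsQuasiAffine.isBasis_basicOpen K.toScheme).exists_subset_of_mem_open
      (Set.mem_univ (q z)) isOpen_univ
  refine ⟨q.appTop r, ?_, ?_⟩
  · rw [← Scheme.preimage_basicOpen_top]; exact hzr
  have hc : IsCompact ((U.toScheme.basicOpen (q.appTop r)) : Set U.toScheme) := by
    rw [← Scheme.preimage_basicOpen_top]
    exact q.isCompact_preimage hr.isCompact
  have := isQuasiAffine_of_le hf (hr.image_of_isOpenImmersion K.ι)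
    (U := U.ι ''ᵁ U.toScheme.basicOpen (q.appTop r)) (by
      rintro _ ⟨x, hx, rfl⟩
      rw [SetLike.mem_coe, ← Scheme.preimage_basicOpen_top] at hx
      show f (U.ι x) ∈ K.ι ''ᵁ K.toScheme.basicOpen r
      refine ⟨q x, hx, ?_⟩
      show (q ≫ K.ι) x = _
      rw [hq]
      rfl)
    (hc.image U.ι.continuous)
  exact QA11.isQuasiAffine_of_iso (U.ι.isoImage _).hom

theorem comp {f : X ⟶ Y} {g : Y ⟶ Z} (hf : MoreMor.IsIndQuasiAffineHom f)
    (hg : MoreMor.IsIndQuasiAffineHom g) : MoreMor.IsIndQuasiAffineHom (f ≫ g) := by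
  refine of_cover _ fun z => ?_
  obtain ⟨V, hV, hz, -⟩ := exists_isAffineOpen_mem_and_subset (X := Z) (x := z) (U := ⊤) trivial
  refine ⟨V, hz, fun U hU hUc => ?_⟩
  obtain ⟨K, hUK, hKV, hK⟩ := exists_isCompact_open_superset (hUc.image f.continuous) (g ⁻¹ᵁ V)
    (by rintro _ ⟨x, hx, rfl⟩; exact hU hx)
  have := isQuasiAffine_of_le hg hV hKV hK
  exact isQuasiAffine_of_le' hf (fun x hx => hUK ⟨x, hx, rfl⟩) hUc

theorem of_comp {f : X ⟶ Y} {g : Y ⟶ Z} (h : MoreMor.IsIndQuasiAffineHom (f ≫ g)) :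
    MoreMor.IsIndQuasiAffineHom f := by
  refine of_cover _ fun y => ?_
  obtain ⟨V, hV, hy, -⟩ := exists_isAffineOpen_mem_and_subset (X := Z) (x := g y) (U := ⊤) trivial
  exact ⟨g ⁻¹ᵁ V, hy, fun U hU hUc => isQuasiAffine_of_le h hV hU hUc⟩

theorem of_isImmersion (f : X ⟶ Y) [IsImmersion f] : MoreMor.IsIndQuasiAffineHom f := by
  refine of_cover _ fun y => ?_
  obtain ⟨V, hV, hy, -⟩ := exists_isAffineOpen_mem_and_subset (X := Y) (x := y) (U := ⊤) trivial
  refine ⟨V, hy, fun U hU hUc => ?_⟩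
  have : IsAffine V.toScheme := hV
  have : CompactSpace U.toScheme := isCompact_iff_compactSpace.mp hUc
  have : IsImmersion (f.resLE V U hU ≫ V.ι) := by rw [Scheme.Hom.resLE_comp_ι]; infer_instance
  have : IsImmersion (f.resLE V U hU) := .of_comp _ V.ι
  exact Scheme.IsQuasiAffine.of_isImmersion (f.resLE V U hU)

theorem of_isQuasiAffineHom {f : X ⟶ Y} (h : MoreMor.IsQuasiAffineHom f) :
    MoreMor.IsIndQuasiAffineHom f := by
  refine of_cover _ fun y => ?_
  obtain ⟨V, hV, hy, -⟩ := exists_isAffineOpen_mem_and_subset (X := Y) (x := y) (U := ⊤) trivial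
  have := h.2 V hV
  exact ⟨V, hy, fun U hU hUc => QA11.isQuasiAffine_of_le hU hUc⟩

/-- Quasi-compact ind-quasi-affine morphisms are quasi-affine. -/
theorem isQuasiAffineHom_of_quasiCompact {f : X ⟶ Y} (h : MoreMor.IsIndQuasiAffineHom f)
    [QuasiCompact f] : MoreMor.IsQuasiAffineHom f :=
  ⟨inferInstance, fun _ hV =>
    isQuasiAffine_of_le h hV le_rfl (f.isCompact_preimage hV.isCompact)⟩

/-- Ind-quasi-affineness descends along flat surjective quasi-compact morphisms. -/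
theorem of_baseChange {X' Y' : Scheme.{u}} {f : X ⟶ Y} {f' : X' ⟶ Y'} {g' : X' ⟶ X} {g : Y' ⟶ Y}
    [Flat g] [Surjective g] [QuasiCompact g] (hc : IsPullback g' f' f g)
    (hf' : MoreMor.IsIndQuasiAffineHom f') : MoreMor.IsIndQuasiAffineHom f := by
  refine of_cover f fun y => ?_
  obtain ⟨V, hV, hy, -⟩ := exists_isAffineOpen_mem_and_subset (X := Y) (x := y) (U := ⊤) trivial
  refine ⟨V, hy, fun U hU hUc => ?_⟩
  have : IsAffine V.toScheme := hV
  have : CompactSpace U.toScheme := isCompact_iff_compactSpace.mp hUc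
  let q : U.toScheme ⟶ V.toScheme := f.resLE V U hU
  have hq : q ≫ V.ι = U.ι ≫ f := Scheme.Hom.resLE_comp_ι _ _
  have : QuasiCompact q := quasiCompact_of_compactSpace q
  have : Flat (g ∣_ V) := IsZariskiLocalAtTarget.restrict ‹_› V
  have : Surjective (g ∣_ V) := IsZariskiLocalAtTarget.restrict ‹_› V
  have : QuasiCompact (g ∣_ V) := IsZariskiLocalAtTarget.restrict ‹_› V
  let a := pullback.fst (g ∣_ V) q
  let b := pullback.snd (g ∣_ V) q
  have hw : (b ≫ U.ι) ≫ f = (a ≫ (g ⁻¹ᵁ V).ι) ≫ g := by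
    simp only [Category.assoc]
    rw [← hq, ← morphismRestrict_ι g V, pullback.condition_assoc]
  obtain ⟨m, hm₀, hm₁⟩ : ∃ m : pullback (g ∣_ V) q ⟶ X',
      m ≫ g' = b ≫ U.ι ∧ m ≫ f' = a ≫ (g ⁻¹ᵁ V).ι :=
    ⟨hc.lift _ _ hw, hc.lift_fst _ _ _, hc.lift_snd _ _ _⟩
  have sq₁ : IsPullback b (a ≫ (g ⁻¹ᵁ V).ι) (U.ι ≫ f) g := by
    rw [← hq]
    exact (IsPullback.of_hasPullback (g ∣_ V) q).flip.paste_vert
      (isPullback_morphismRestrict g V).flip.flip
  have sq₂ : IsPullback b m U.ι g' := by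
    refine IsPullback.of_bot ?_ hm₀.symm hc
    rw [hm₁]
    exact sq₁
  have : IsOpenImmersion m := MorphismProperty.of_isPullback (P := @IsOpenImmersion) sq₂
    inferInstance
  have ha : MoreMor.IsIndQuasiAffineHom a := by
    refine of_comp (g := (g ⁻¹ᵁ V).ι) ?_
    rw [← hm₁]
    exact comp (of_isImmersion m) hf'
  have hq' := QADesc18.isQuasiAffineHom_of_isPullback (IsPullback.of_hasPullback (g ∣_ V) q)
    (isQuasiAffineHom_of_quasiCompact ha)
  have := hq'.2 ⊤ (isAffineOpen_top V.toScheme)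
  have : (⊤ : U.toScheme.Opens).toScheme.IsQuasiAffine := this
  exact QA11.isQuasiAffine_of_iso U.toScheme.topIso.inv

end Groth.Agent.IndQA12
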